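import Groth.Agent.VAmple.Sections

/-!
# Sections of large powers of an ample module twisted by an invertible one
-/

universe u

open CategoryTheory AlgebraicGeometry TopologicalSpace Opposite
open Groth.Agent.H23.PicMul
open Groth.Agent.AModX (res resR)

set_option backward.isDefEq.respectTransparency false
set_option backward.isDefEq.respectTransparency.types false
set_option linter.style.haveILetI false

namespace Groth.Agent.VAmple

open Groth.Agent Groth.Agent.AmpleX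

variable {X : Scheme.{u}} {L M : X.Modules}

theorem exists_cover₂ [CompactSpace X] [X.IsSeparated] (hL : CohB1.IsAmple L) (hM : PicF.IsInvertible M) :
    ∃ (a : ℕ) (_ : 0 < a) (κ : Type u) (_ : Fintype κ)
      (σ : κ → (Coh.structureModule X ⟶ CohB1.tensorPow L a)),
      (∀ k, IsAffineOpen (CohB1.genLocus _ (σ k))) ∧
      (∀ k, ∃ e : Γ(L, CohB1.genLocus _ (σ k)), InvX.IsFrame e) ∧
      (∀ k, ∃ e : Γ(M, CohB1.genLocus _ (σ k)), InvX.IsFrame e) ∧
      ∀ x : X, ∃ k, x ∈ CohB1.genLocus _ (σ k) := by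
  classical
  have hloc : ∀ x : X, ∃ (m : ℕ) (_ : 0 < m) (s : Coh.structureModule X ⟶ CohB1.tensorPow L m),
      x ∈ CohB1.genLocus _ s ∧ IsAffineOpen (CohB1.genLocus _ s) ∧
        (∃ e : Γ(L, CohB1.genLocus _ s), InvX.IsFrame e) ∧ ∃ e : Γ(M, CohB1.genLocus _ s), InvX.IsFrame e :=
    fun x => by
    obtain ⟨U, hxU, e, he⟩ := InvX.exists_frame hL.1 x
    obtain ⟨U', hxU', e', he'⟩ := InvX.exists_frame hM x
    obtain ⟨m, hm, s, hxs, hle, hs⟩ := exists_genLocus_le (U := U ⊓ U') hL ⟨hxU, hxU'⟩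
    exact ⟨m, hm, s, hxs, hs, ⟨_, he.res (hle.trans inf_le_left)⟩, _, he'.res (hle.trans inf_le_right)⟩
  choose m hm s hxs hs he he' using hloc
  obtain ⟨S, hS⟩ := isCompact_univ.elim_finite_subcover
    (fun x => (CohB1.genLocus _ (s x) : Set X)) (fun x => (CohB1.genLocus _ (s x)).2)
    (fun x _ => Set.mem_iUnion.2 ⟨x, hxs x⟩)
  let a := ∏ x ∈ S, m x
  have ha : 0 < a := Finset.prod_pos fun x _ => hm x
  have hpow : ∀ x : S, ∃ t : Coh.structureModule X ⟶ CohB1.tensorPow L a,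
      CohB1.genLocus _ t = CohB1.genLocus _ (s x) := fun x => by
    obtain ⟨c, hc⟩ : m x ∣ a := Finset.dvd_prod_of_mem _ x.2
    obtain ⟨k, rfl⟩ : ∃ k, c = k + 1 := Nat.exists_eq_add_of_le'
      (Nat.pos_of_ne_zero fun h0 => by rw [h0, mul_zero] at hc; exact ha.ne' hc)
    obtain ⟨t, ht⟩ := exists_section_of_cl_eq (B := CohB1.tensorPow L a)
      (by rw [cl_tensorPow, cl_tensorPow, cl_tensorPow, ← pow_mul, hc]) (InvX.powHom (s x) (k + 1))
    exact ⟨t, ht.trans (InvX.genLocus_powHom (InvX.isInvertible_tensorPow hL.1 _) _ k)⟩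
  choose t ht using hpow
  refine ⟨a, ha, S, inferInstance, t, fun x => (ht x).symm ▸ hs x, fun x => (ht x).symm ▸ he x,
    fun x => (ht x).symm ▸ he' x, fun x => ?_⟩
  obtain ⟨y, hy, hxy⟩ := Set.mem_iUnion₂.1 (hS (Set.mem_univ x))
  exact ⟨⟨y, hy⟩, (ht ⟨y, hy⟩).symm ▸ hxy⟩

theorem exists_sections_cover₂ [CompactSpace X] [X.IsSeparated] (hL : CohB1.IsAmple L) (hM : PicF.IsInvertible M) :
    ∃ n₁ : ℕ, ∀ b, n₁ ≤ b → ∃ (J : Type u) (_ : Fintype J)
      (τ : J → Γ(CohB1.tensorMod M (CohB1.tensorPow L b), ⊤)), ∀ x : X, ∃ j, x ∈ locus (τ j) := by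
  obtain ⟨n₁, h⟩ := eventually_generated (F := M) hL (ProjUPX.isQCoh_of_isInvertible hM)
    (QCoh.isFT_of_isFP (QCoh.isFP_of_isFinLocFree (H23.PullPush.isFinLocFree_of_isInvertible hM)))
  refine ⟨n₁, fun b hb => ?_⟩
  obtain ⟨G, iso, ι, s, hs⟩ := h b hb
  have hG : PicF.IsInvertible G := H23.PicMul.isInvertible_of_iso iso.symm
    (InvX.isInvertible_tensorMod hM (InvX.isInvertible_tensorPow hL.1 b))
  have hx : ∀ x : X, ∃ i, x ∈ locus (s i) := fun x => by
    obtain ⟨i, U, hxU, hU⟩ := InvX.exists_frame_of_generated hG s x (hs x)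
    exact ⟨i, le_locus _ le_top hU hxU⟩
  choose i hi using hx
  obtain ⟨S, hS⟩ := isCompact_univ.elim_finite_subcover (fun x => (locus (s (i x)) : Set X))
    (fun x => (locus (s (i x))).2) (fun x _ => Set.mem_iUnion.2 ⟨x, hi x⟩)
  refine ⟨S, inferInstance, fun j => iso.hom.app ⊤ (s (i j.1)), fun x => ?_⟩
  obtain ⟨y, hy, hxy⟩ := Set.mem_iUnion₂.1 (hS (Set.mem_univ x))
  exact ⟨⟨y, hy⟩, (locus_iso iso (s (i y))).ge hxy⟩

/-- For large `n`: finitely many sections of `L ^ n` with coordinates generating the functions on affine loci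
covering the scheme. -/
theorem exists_sections_tensor {R : Type u} [CommRing R] (q : X ⟶ Spec (CommRingCat.of R)) [LocallyOfFiniteType q]
    [CompactSpace X] [X.IsSeparated] (hL : CohB1.IsAmple L) (hM : PicF.IsInvertible M) :
    ∃ n₀ : ℕ, ∀ n, n₀ ≤ n → ∃ (κ : Type u) (_ : Fintype κ)
      (s : κ → Γ(CohB1.tensorMod (CohB1.tensorPow L n) M, ⊤)),
      ∀ x : X, ∃ (l : κ) (V : X.Opens), x ∈ V ∧ V = locus (s l) ∧ IsAffineOpen V ∧
        Subring.closure (Set.range ((resR (le_top : V ≤ ⊤)).comp (ProjUP.toGlobal q)) ∪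
          {v : Γ(X, V) | ∃ i, res _ (le_top : V ≤ ⊤) (s i) = v • res _ (le_top : V ≤ ⊤) (s l)}) = ⊤ := by
  classical
  obtain ⟨a, ha, κ₀, _, σ, hσ, he, he', hcov⟩ := exists_cover₂ hL hM
  choose e he using he
  choose d hd using he'
  obtain ⟨n₁, hn₁⟩ := exists_sections_cover₂ hL hM
  choose J hJ τ hτ using fun r : Fin a => hn₁ (n₁ + r) (Nat.le_add_right _ _)
  choose m g hg using fun k => PnCoh.Chow.exists_gens q (hσ k)
  let G := fun k => CohB1.genLocus _ (σ k)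
  let t : ∀ (r : Fin a) (k : κ₀) (j : J r), Option (Fin (m k)) → Γ(CohB1.tensorMod M (CohB1.tensorPow L (n₁ + r)), G k) :=
    fun r k j o => o.elim (InvX.tmul (d k) (powElt (e k) (n₁ + r))) (fun c => g k c • res _ (le_top : G k ≤ ⊤) (τ r j))
  have hext := fun (r : Fin a) (p : Σ (k : κ₀) (_ : J r), Option (Fin (m k))) => exists_extend
    (ProjUPX.isQCoh_of_isInvertible (InvX.isInvertible_tensorMod hM (InvX.isInvertible_tensorPow hL.1 (n₁ + r))))
    (InvX.isInvertible_tensorPow hL.1 a) (σ p.1) (t r p.1 p.2.1 p.2.2)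
  choose Q hQ using hext
  haveI := fun r => hJ r
  let Q₀ := Finset.univ.sup fun r => Finset.univ.sup (Q r)
  refine ⟨n₁ + a * (Q₀ + 1), fun n hn => ?_⟩
  let r : Fin a := ⟨(n - n₁) % a, Nat.mod_lt _ ha⟩
  have hqq : Q₀ + 1 ≤ (n - n₁) / a := (Nat.le_div_iff_mul_le ha).2 (by rw [mul_comm]; omega)
  obtain ⟨q', hq'⟩ := Nat.exists_eq_add_of_le' (le_trans (Nat.le_add_left 1 Q₀) hqq)
  obtain ⟨φ⟩ : Nonempty (CohB1.tensorMod (CohB1.tensorMod M (CohB1.tensorPow L (n₁ + r)))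
      (CohB1.tensorPow (CohB1.tensorPow L a) (q' + 1)) ≅ CohB1.tensorMod (CohB1.tensorPow L n) M) := cl_eq_iff.1 (by
    have h1 : n₁ + (n - n₁) % a + a * (q' + 1) = n := by
      rw [← hq', add_assoc, Nat.mod_add_div]; omega
    rw [cl_tensor, cl_tensor, cl_tensor, cl_tensorPow, cl_tensorPow, cl_tensorPow, cl_tensorPow, mul_assoc,
      ← pow_mul, ← pow_add, h1, mul_comm])
  choose T hT using fun p => hQ r p (q' + 1)
    ((Finset.le_sup (f := Q r) (Finset.mem_univ p)).trans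
      ((Finset.le_sup (f := fun r => Finset.univ.sup (Q r)) (Finset.mem_univ r)).trans
        ((Nat.le_succ Q₀).trans (hqq.trans hq'.le))))
  let P : ∀ k, Γ(CohB1.tensorPow (CohB1.tensorPow L a) (q' + 1), ⊤) := fun k => powElt (InvX.one (σ k)) (q' + 1)
  let s : ((κ₀ × J r) ⊕ (Σ (k : κ₀) (_ : J r), Option (Fin (m k)))) → Γ(CohB1.tensorMod (CohB1.tensorPow L n) M, ⊤) :=
    Sum.elim (fun p => φ.hom.app ⊤ (InvX.tmul (τ r p.2) (P p.1))) (fun p => φ.hom.app ⊤ (T p))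
  refine ⟨_, inferInstance, s, fun x => ?_⟩
  obtain ⟨k, hxk⟩ := hcov x
  obtain ⟨j, hxj⟩ := hτ r x
  have hE : InvX.IsFrame (InvX.tmul (d k) (powElt (e k) (n₁ + r))) := InvX.isFrame_tmul (hd k) (isFrame_powElt (he k) _)
  obtain ⟨h, hh⟩ := hE.exists_coord le_rfl (res _ (le_top : G k ≤ ⊤) (τ r j))
  rw [AModX.res_self] at hh
  have hinf : locus (τ r j) ⊓ G k = X.basicOpen h := locus_inf _ le_top hE hh
  have hloc : locus (s (Sum.inl (k, j))) = locus (τ r j) ⊓ G k := by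
    refine (locus_iso φ _).trans ?_
    rw [locus_tmul (InvX.isInvertible_tensorMod hM (InvX.isInvertible_tensorPow hL.1 _)) (InvX.isInvertible_tensorPow
      (InvX.isInvertible_tensorPow hL.1 a) _), locus_powElt (InvX.isInvertible_tensorPow hL.1 a),
      ← genLocus_eq_locus]
  refine ⟨Sum.inl (k, j), X.basicOpen h, hinf.le ⟨hxj, hxk⟩, (hloc.trans hinf).symm, (hσ k).basicOpen h, ?_⟩
  set V := X.basicOpen h
  have hVG : V ≤ G k := X.basicOpen_le h
  set S := Subring.closure (Set.range ((resR (le_top : V ≤ ⊤)).comp (ProjUP.toGlobal q)) ∪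
    {v : Γ(X, V) | ∃ i, res _ (le_top : V ≤ ⊤) (s i) = v • res _ (le_top : V ≤ ⊤) (s (Sum.inl (k, j)))}) with hS
  have hcoord : ∀ (o : Option (Fin (m k))) (c : Γ(X, V)),
      res _ hVG (t r k j o) = c • res _ (le_top : V ≤ ⊤) (τ r j) → c ∈ S := fun o c hc => by
    refine Subring.subset_closure (Or.inr ⟨Sum.inr ⟨k, j, o⟩, ?_⟩)
    show res _ _ (φ.hom.app ⊤ (T ⟨k, j, o⟩)) = c • res _ _ (φ.hom.app ⊤ (InvX.tmul (τ r j) (P k)))
    rw [← AModX.app_res, ← AModX.app_res, ← Scheme.Modules.Hom.app_smul]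
    refine congrArg _ ?_
    rw [InvX.res_tmul, ← InvX.tmul_smul_left, ← hc,
      ← AModX.res_res (le_top : G k ≤ ⊤) hVG (T ⟨k, j, o⟩)]
    refine (congrArg (res _ hVG) (hT ⟨k, j, o⟩)).trans ((InvX.res_tmul _ _ _).trans ?_)
    refine congrArg (InvX.tmul _) ?_
    rw [res_powElt, AModX.res_res, res_powElt]
  have hunit : IsUnit (resR hVG h) := AModX.isUnit_resR _ _ le_rfl
  obtain ⟨u, hu⟩ := hunit
  have hτV : res _ (le_top : V ≤ ⊤) (τ r j) = (u : Γ(X, V)) • res _ hVG (InvX.tmul (d k) (powElt (e k) (n₁ + r))) := by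
    rw [← AModX.res_res (le_top : G k ≤ ⊤) hVG, hh, AModX.res_smul, hu]
  have huS : (↑u⁻¹ : Γ(X, V)) ∈ S := hcoord none _ (by
    rw [hτV, smul_smul, Units.inv_mul, one_smul]; rfl)
  have hgS : ∀ c, resR hVG (g k c) ∈ S := fun c => hcoord (some c) _ (by
    show res _ hVG (g k c • res _ (le_top : G k ≤ ⊤) (τ r j)) = _
    rw [AModX.res_smul, AModX.res_res])
  have hGS : ∀ y : Γ(X, G k), resR hVG y ∈ S := fun y => by
    obtain ⟨p, rfl⟩ := hg k y
    rw [MvPolynomial.map_eval₂Hom]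
    refine eval₂Hom_mem _ _ S (fun c => Subring.subset_closure (Or.inl ⟨c, ?_⟩)) hgS p
    show resR (le_top : V ≤ ⊤) (ProjUP.toGlobal q c) = resR hVG (PnCoh.Chow.aHom q (G k) c)
    show resR (le_top : V ≤ ⊤) (q.appTop ((Scheme.ΓSpecIso (CommRingCat.of R)).inv c)) =
      resR hVG (q.appLE ⊤ (G k) le_top ((Scheme.ΓSpecIso (CommRingCat.of R)).inv c))
    rw [show q.appLE ⊤ (G k) le_top = q.appTop ≫ X.presheaf.map (homOfLE le_top).op from rfl, CommRingCat.comp_apply]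
    exact (AModX.resR_resR _ _ _).symm
  refine eq_top_iff.2 fun z _ => ?_
  letI : Algebra Γ(X, G k) Γ(X, V) := (X.presheaf.map (homOfLE hVG).op).hom.toAlgebra
  haveI : IsLocalization.Away h Γ(X, V) := (hσ k).isLocalization_basicOpen h
  obtain ⟨N, y, hy⟩ := IsLocalization.Away.surj h z
  have hy' : z * (u : Γ(X, V)) ^ N = resR hVG y := by rw [hu]; exact hy
  have hz : z = resR hVG y * (↑u⁻¹ : Γ(X, V)) ^ N := by
    rw [← hy', mul_assoc, ← mul_pow, Units.mul_inv, one_pow, mul_one]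
  rw [hz]
  exact mul_mem (hGS y) (pow_mem huS N)

end Groth.Agent.VAmple
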