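import Groth.Agent.VAmple.Sections
import Groth.Agent.ProjUPX.Unique
import Groth.Agent.PnCoh.Chow.RelEmb
import Groth.Prelude.Def_LCI2

/-!
# Large powers of an ample module are very ample relative to projective space
-/

universe u

open CategoryTheory CategoryTheory.Limits AlgebraicGeometry TopologicalSpace Opposite HomogeneousLocalization
open Groth.Agent.AModX (res resR)

set_option backward.isDefEq.respectTransparency false
set_option backward.isDefEq.respectTransparency.types false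
set_option linter.style.haveILetI false

namespace Groth.Agent.VAmple

open Groth.Agent Groth.Agent.AmpleX

theorem isClosedImmersion_morphismRestrict {X Y : Scheme.{u}} (f : X ⟶ Y) {O : Y.Opens} (hO : IsAffineOpen O)
    (hV : IsAffineOpen (f ⁻¹ᵁ O)) (h : Function.Surjective (f.app O)) : IsClosedImmersion (f ∣_ O) := by
  haveI : IsAffine O.toScheme := hO
  haveI : IsAffine (f ⁻¹ᵁ O).toScheme := hV
  refine IsClosedImmersion.of_surjective_of_isAffine _ ?_
  rw [morphismRestrict_appTop]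
  have h2 : Function.Surjective (f.app (O.ι ''ᵁ ⊤)) := by
    have key : ∀ O', O' = O → Function.Surjective (f.app O') := by rintro _ rfl; exact h
    exact key _ O.ι_image_top
  simp only [ConcreteCategory.comp_apply, CommRingCat.hom_comp, RingHom.coe_comp]
  exact Function.Surjective.comp (ConcreteCategory.bijective_of_isIso _).2 h2

theorem mem_range_appLE {X Y W : Scheme.{u}} {f : X ⟶ Y} {g : Y ⟶ W} {h : X ⟶ W} (e : f ≫ g = h) {A : W.Opens}
    {O : Y.Opens} {V : X.Opens} (eg : O ≤ g ⁻¹ᵁ A) (ef : V ≤ f ⁻¹ᵁ O) (eh : V ≤ h ⁻¹ᵁ A) (a : Γ(W, A)) :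
    h.appLE A V eh a ∈ (f.appLE O V ef).hom.range := by
  subst e
  exact ⟨g.appLE A O eg a, ConcreteCategory.congr_hom (Scheme.Hom.appLE_comp_appLE f g A O V eg ef) a⟩

theorem surjective_app_lift {X Y P : Scheme.{u}} {j : X ⟶ Y} {g : Y ⟶ P} {i : X ⟶ P} (e : j ≫ g = i) {O : P.Opens}
    {V : X.Opens} (hV : j ⁻¹ᵁ (g ⁻¹ᵁ O) = V) (hiV : V ≤ i ⁻¹ᵁ O) (h : Function.Surjective (i.appLE O V hiV)) :
    Function.Surjective (j.app (g ⁻¹ᵁ O)) := by
  subst hV e
  intro z
  obtain ⟨w, hw⟩ := h z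
  refine ⟨g.app O w, ?_⟩
  rw [← hw, Scheme.Hom.app_eq_appLE, Scheme.Hom.app_eq_appLE]
  exact ConcreteCategory.congr_hom (Scheme.Hom.appLE_comp_appLE j g O (g ⁻¹ᵁ O) _ le_rfl le_rfl) w

variable {X Y : Scheme.{u}} [IsAffine Y] {M : X.Modules}

/-- Sections with coordinates generating the functions on affine loci give an immersion in projective space. -/
theorem exists_immersion (q : X ⟶ Y) (hM : PicF.IsInvertible M) (N : ℕ)
    (s : ULift.{u} (Fin (N + 1)) → Γ(M, ⊤))
    (hs : ∀ x : X, ∃ (l : ULift.{u} (Fin (N + 1))) (V : X.Opens), x ∈ V ∧ V = locus (s l) ∧ IsAffineOpen V ∧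
      Subring.closure (Set.range ((resR (le_top : V ≤ ⊤)).comp q.appTop.hom) ∪
        {v : Γ(X, V) | ∃ i, res _ (le_top : V ≤ ⊤) (s i) = v • res _ (le_top : V ≤ ⊤) (s l)}) = ⊤) :
    RelAmple.IsRelVeryAmplePn q M := by
  classical
  let Z := ULift.{u} ℤ
  let 𝒜 := CohB1.polyGrading N Z
  let T : ULift.{u} (Fin (N + 1)) → MvPolynomial (Fin (N + 1)) Z := fun i => MvPolynomial.X i.down
  have hT : ∀ i, T i ∈ 𝒜 1 := fun i => ProjPt.X_mem i.down
  have hgen : Algebra.adjoin Z (Set.range T) = ⊤ := by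
    rw [show Set.range T = Set.range (MvPolynomial.X : Fin (N + 1) → _) from
      Set.ext fun p => ⟨fun ⟨i, h⟩ => ⟨i.down, h⟩, fun ⟨i, h⟩ => ⟨⟨i⟩, h⟩⟩]
    exact MvPolynomial.adjoin_range_X
  have hsgen : ProjUP.GeneratedBy M s := fun x => by
    obtain ⟨l, V, hxV, hVeq, -, -⟩ := hs x
    have hf : InvX.IsFrame (res M (le_top : V ≤ ⊤) (s l)) := isFrame_res_of_le (s l) hVeq.le
    refine top_le_iff.1 fun w _ => ?_
    obtain ⟨c, hc⟩ := (hf.germ_bijective hxV).2 w
    rw [← hc]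
    refine Submodule.smul_mem _ c (Submodule.subset_span ⟨l, ?_⟩)
    exact (InvX.germ_res' le_top hxV (s l)).symm
  let qZ : X ⟶ Spec (CommRingCat.of Z) := specULiftZIsTerminal.from X
  obtain ⟨r, hr, τ, hτ⟩ := ProjUPX.exists_map (𝒜 := 𝒜) qZ hM _ T hT hgen (PnCoh.Chow.cov_coord Z) s hsgen
    (fun V v k _ _ => ⟨MvPolynomial.eval₂Hom ((resR (le_top : V ≤ ⊤)).comp (ProjUP.toGlobal qZ)) (fun i => v ⟨i⟩),
      fun l => MvPolynomial.eval₂Hom_X' _ _ _, fun z => MvPolynomial.eval₂Hom_C _ _ z⟩)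
  have hw : r ≫ CohB1.ProjSpace.toSpec N Z = q ≫ specULiftZIsTerminal.from _ := specULiftZIsTerminal.hom_ext _ _
  let i : X ⟶ pullback (CohB1.ProjSpace.toSpec N Z) (specULiftZIsTerminal.from Y) :=
    pullback.lift r q hw
  have hi1 : i ≫ pullback.fst _ _ = r := pullback.lift_fst _ _ _
  have hi2 : i ≫ pullback.snd _ _ = q := pullback.lift_snd _ _ _
  let p1 := pullback.fst (CohB1.ProjSpace.toSpec N Z) (specULiftZIsTerminal.from Y)
  have hframe : ∀ l, InvX.IsFrame (res M (le_top : r ⁻¹ᵁ Proj.basicOpen 𝒜 (T l) ≤ ⊤) (s l)) := fun l => by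
    have h := InvX.IsFrame.map_iso τ (ProjUPX.isFrame_pullG r (hT l))
    rw [AModX.app_res, show τ.hom.app ⊤ (ProjUPX.pullG r (hT l)) = s l from hτ l] at h
    exact h
  have hpre : ∀ l, r ⁻¹ᵁ Proj.basicOpen 𝒜 (T l) = locus (s l) := fun l => by
    refine le_antisymm (le_locus _ le_top (hframe l)) fun x hx => ?_
    obtain ⟨b, hb⟩ := PnCoh.Chow.cov_coord Z (r x)
    let W : X.Opens := locus (s l) ⊓ r ⁻¹ᵁ Proj.basicOpen 𝒜 (T b)
    have h1 := congrArg (τ.hom.app W) (ProjUPX.res_pullG r (hT l) (hT b) (inf_le_right : W ≤ _))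
    rw [Scheme.Modules.Hom.app_smul, AModX.app_res, AModX.app_res,
      show τ.hom.app ⊤ (ProjUPX.pullG r (hT l)) = s l from hτ l,
      show τ.hom.app ⊤ (ProjUPX.pullG r (hT b)) = s b from hτ b] at h1
    obtain ⟨c, hc⟩ := (isFrame_res_of_le (s l) (inf_le_left : W ≤ _)).exists_coord le_rfl
      (res M (le_top : W ≤ ⊤) (s b))
    rw [AModX.res_self] at hc
    have hu : IsUnit (ProjUPX.ratioOf r (hT l) (hT b) (inf_le_right : W ≤ _)) := by
      refine IsUnit.of_mul_eq_one c ((isFrame_res_of_le (s l) (inf_le_left : W ≤ _)).coord_unique le_rfl ?_)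
      rw [AModX.res_self, one_smul, mul_smul, ← hc, ← h1]
    exact ProjUPX.le_preimage_of_isUnit r (hT l) (hT b) (inf_le_right : W ≤ _) hu
      (show x ∈ W from ⟨hx, hb⟩)
  haveI : IsAffineHom (specULiftZIsTerminal.from Y) := inferInstance
  haveI : IsAffineHom p1 := MorphismProperty.pullback_fst _ _ inferInstance
  let O : ULift.{u} (Fin (N + 1)) →
      (pullback (CohB1.ProjSpace.toSpec N Z) (specULiftZIsTerminal.from Y)).Opens :=
    fun l => p1 ⁻¹ᵁ Proj.basicOpen 𝒜 (T l)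
  have hiO : ∀ l, i ⁻¹ᵁ O l = locus (s l) := fun l => by
    rw [← hpre l, ← hi1]; rfl
  choose L V hxV hVeq hVaff hcl using hs
  let U := ⨆ x : X, O (L x)
  have hrange : Set.range i ⊆ Set.range U.ι := by
    rintro _ ⟨x, rfl⟩
    rw [Scheme.Opens.range_ι]
    exact Opens.mem_iSup.2 ⟨x, (hiO (L x)).ge ((hVeq x).le (hxV x))⟩
  let j := IsOpenImmersion.lift U.ι i hrange
  have hj : j ≫ U.ι = i := IsOpenImmersion.lift_fac _ _ _
  have hjc : IsClosedImmersion j := by
    refine IsZariskiLocalAtTarget.of_iSup_eq_top (P := @IsClosedImmersion) (fun x : X => U.ι ⁻¹ᵁ O (L x)) ?_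
      fun x => ?_
    · refine eq_top_iff.2 fun z _ => ?_
      obtain ⟨x, hx⟩ := Opens.mem_iSup.1 z.2
      exact Opens.mem_iSup.2 ⟨x, hx⟩
    · have hOU : O (L x) ≤ U := le_iSup (fun x => O (L x)) x
      have hO' : IsAffineOpen (U.ι ⁻¹ᵁ O (L x)) :=
        ((Proj.isAffineOpen_basicOpen 𝒜 _ (hT (L x)) one_pos).preimage p1).preimage_of_isOpenImmersion U.ι
          (by rw [Scheme.Opens.opensRange_ι]; exact hOU)
      have hjV : j ⁻¹ᵁ U.ι ⁻¹ᵁ O (L x) = V x := by
        rw [← Scheme.Hom.comp_preimage, hj, hiO, hVeq]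
      refine isClosedImmersion_morphismRestrict j hO' (hjV ▸ hVaff x) ?_
      have hiV : V x ≤ i ⁻¹ᵁ O (L x) := ((hVeq x).trans (hiO _).symm).le
      have hsurj : Function.Surjective (i.appLE (O (L x)) (V x) hiV) := by
        intro z
        suffices hz : (⊤ : Subring Γ(X, V x)) ≤ (i.appLE (O (L x)) (V x) hiV).hom.range from hz trivial
        rw [← hcl x, Subring.closure_le]
        rintro v (⟨c, rfl⟩ | ⟨m, hm⟩)
        · refine Eq.subst (motive := fun w => w ∈ (i.appLE (O (L x)) (V x) hiV).hom.range) ?_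
            (mem_range_appLE hi2 le_top hiV le_top c)
          rfl
        · have hle : V x ≤ r ⁻¹ᵁ Proj.basicOpen 𝒜 (T (L x)) := ((hVeq x).trans (hpre _).symm).le
          have hv : v = ProjUPX.ratioOf r (hT m) (hT (L x)) hle := by
            have h1 := congrArg (τ.hom.app (V x)) (ProjUPX.res_pullG r (hT m) (hT (L x)) hle)
            rw [Scheme.Modules.Hom.app_smul, AModX.app_res, AModX.app_res,
              show τ.hom.app ⊤ (ProjUPX.pullG r (hT m)) = s m from hτ m,
              show τ.hom.app ⊤ (ProjUPX.pullG r (hT (L x))) = s (L x) from hτ (L x)] at h1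
            refine (isFrame_res_of_le (s (L x)) (hVeq x).le).coord_unique le_rfl ?_
            rw [AModX.res_self, ← hm, ← h1]
          rw [hv, ProjUPX.ratioOf]
          exact mem_range_appLE hi1 le_rfl hiV hle _
      exact surjective_app_lift hj hjV hiV hsurj
  haveI : IsImmersion i := by rw [← hj]; haveI := hjc; infer_instance
  refine ⟨N, i, inferInstance, hi2, ⟨τ.symm ≪≫ ?_⟩⟩
  exact eqToIso (by rw [hi1]; rfl) ≪≫ ((Scheme.Modules.pullbackComp i p1).app (Twist.twistProjSpace N Z 1)).symm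

end Groth.Agent.VAmple
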