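import Groth.Agent.KPE7.Univ
import Groth.Agent.AmpleX.Sect
import Groth.Agent.SymX.VeryAmpleTensor
import Groth.Agent.S19661

/-!
# Very ample tensor generated is very ample (projective space form)
-/

set_option autoImplicit false
set_option linter.style.haveILetI false
set_option linter.unusedSectionVars false
set_option backward.isDefEq.respectTransparency false
set_option backward.isDefEq.respectTransparency.types false
universe u
open CategoryTheory CategoryTheory.Limits AlgebraicGeometry TopologicalSpace Opposite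

noncomputable section

namespace Groth.Agent.VAmple.PnTensor

open Groth.Agent Groth.Agent.AModX Groth.Agent.KPE7

variable {X Y S : Scheme.{u}} {M N : X.Modules}

theorem generatedBy_of_locus {κ : Type*} (s : κ → Γ(M, ⊤)) (h : ∀ x, ∃ i, x ∈ AmpleX.locus (s i)) :
    ProjUP.GeneratedBy M s := fun x => by
  obtain ⟨i, hi⟩ := h x
  refine eq_top_iff.2 fun z _ => ?_
  obtain ⟨c, hc⟩ := ((AmpleX.isFrame_res_locus (s i)).germ_bijective hi).2 z
  rw [← hc]
  refine Submodule.smul_mem _ c (Submodule.subset_span ⟨i, ?_⟩)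
  exact (InvX.germ_res' (le_top : AmpleX.locus (s i) ≤ ⊤) hi (s i)).symm

theorem exists_mem_locus (hM : PicF.IsInvertible M) {κ : Type*} {s : κ → Γ(M, ⊤)}
    (hs : ProjUP.GeneratedBy M s) (x : X) : ∃ i, x ∈ AmpleX.locus (s i) := by
  obtain ⟨i, U, hx, hU⟩ := InvX.exists_frame_of_generated hM s x (hs x)
  exact ⟨i, AmpleX.le_locus (s i) le_top hU hx⟩

theorem locus_ps (f : X ⟶ Y) {L : Y.Modules} (hL : PicF.IsInvertible L) {V : Y.Opens}
    (h : (⊤ : X.Opens) ≤ f ⁻¹ᵁ V) (a : Γ(L, V)) : AmpleX.locus (ps f L h a) = f ⁻¹ᵁ AmpleX.locus a := by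
  show AmpleX.locus (res ((Scheme.Modules.pullback f).obj L) h (InvX.pullElt f a)) = _
  rw [AmpleX.locus_res, AmpleX.locus_pullElt hL]
  exact inf_top_eq _

theorem ps_map (f : X ⟶ Y) {L L' : Y.Modules} (φ : L ⟶ L') {V : Y.Opens} (h : (⊤ : X.Opens) ≤ f ⁻¹ᵁ V)
    (a : Γ(L, V)) : ((Scheme.Modules.pullback f).map φ).app ⊤ (ps f L h a) = ps f L' h (φ.app V a) :=
  ps_natural f φ h a

/-- Multiplication by a section. -/
def mulBy (b : Γ(N, ⊤)) : M ⟶ CohB1.tensorMod M N :=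
  ⟨PresheafOfModules.homMk
    { app := fun V => AddCommGrpCat.ofHom
        (ExtPow7.tmulL (U := V.unop) (res N (le_top : V.unop ≤ ⊤) b) : Γ(M, V.unop) →+ Γ(CohB1.tensorMod M N, V.unop))
      naturality := fun V W i => by
        ext x
        show InvX.tmul (res M i.unop.le x) (res N le_top b) = res _ i.unop.le (InvX.tmul x (res N le_top b))
        rw [InvX.res_tmul, res_res] }
    fun V r x => InvX.tmul_smul_left r (show Γ(M, V.unop) from x) (res N le_top b)⟩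

theorem mulBy_app (b : Γ(N, ⊤)) (a : Γ(M, ⊤)) : (mulBy (M := M) b).app ⊤ a = InvX.tmul a b := by
  show InvX.tmul a (res N le_top b) = _
  rw [res_self]

theorem isRelVeryAmplePn_tensor {q : X ⟶ S} {L L' : X.Modules} (hL : PicF.IsInvertible L)
    (hva : RelAmple.IsRelVeryAmplePn q L) (hL' : PicF.IsInvertible L') {m : ℕ} (s : Fin m → Γ(L', ⊤))
    (hs : ProjUP.GeneratedBy L' s) : RelAmple.IsRelVeryAmplePn q (CohB1.tensorMod L L') := by
  classical
  obtain ⟨n, i, hi, hiq, ⟨eL⟩⟩ := hva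
  haveI := hi
  haveI : IsImmersion i := hi
  let O1 := Twist.twistOver n S 1
  have hO1 : PicF.IsInvertible O1 := RegSheaf7.isInvertible_twistOver 1
  let t : Fin (n + 1) → Γ(L, ⊤) := fun a => eL.inv.app ⊤ (ps i O1 (le_refl ⊤) (crdO n S a))
  let s' : Option (Fin m) → Γ(L', ⊤) := fun o => o.elim 0 s
  let K := Fin (n + 1) × Option (Fin m)
  obtain ⟨N, hN⟩ : ∃ N, Fintype.card K = N + 1 := ⟨Fintype.card K - 1, by
    have : 0 < Fintype.card K := Fintype.card_pos_iff.2 ⟨(0, none)⟩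
    omega⟩
  let κ : K ≃ Fin (N + 1) := (Fintype.equivFin K).trans (finCongr hN)
  let LL := CohB1.tensorMod L L'
  have hLL : PicF.IsInvertible LL := InvX.isInvertible_tensorMod hL hL'
  let w : Fin (N + 1) → Γ(LL, ⊤) := fun c => InvX.tmul (t (κ.symm c).1) (s' (κ.symm c).2)
  have htloc : ∀ a, AmpleX.locus (t a) = i ⁻¹ᵁ AmpleX.locus (crdO n S a) := fun a => by
    rw [show t a = eL.symm.hom.app ⊤ _ from rfl, AmpleX.locus_iso]
    exact locus_ps i hO1 _ _
  have ht : ∀ x, ∃ a, x ∈ AmpleX.locus (t a) := fun x => by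
    obtain ⟨a, ha⟩ := exists_mem_locus hO1 (generatedBy_crdO n S) (i x)
    exact ⟨a, by rw [htloc]; exact ha⟩
  have hwloc : ∀ a o, AmpleX.locus (w (κ (a, o))) = AmpleX.locus (t a) ⊓ AmpleX.locus (s' o) := fun a o => by
    simp only [w, Equiv.symm_apply_apply]
    exact AmpleX.locus_tmul hL hL' _ _
  have hw : ProjUP.GeneratedBy LL w := generatedBy_of_locus w fun x => by
    obtain ⟨a, ha⟩ := ht x
    obtain ⟨b, hb⟩ := exists_mem_locus hL' hs x
    exact ⟨κ (a, some b), by rw [hwloc]; exact ⟨ha, hb⟩⟩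
  obtain ⟨φ, hφ, e, he⟩ := exists_toPn N q hLL w hw
  let ON := Twist.twistOver N S 1
  have hON : PicF.IsInvertible ON := RegSheaf7.isInvertible_twistOver 1
  have hloc : ∀ c, φ ⁻¹ᵁ AmpleX.locus (crdO N S c) = AmpleX.locus (w c) := fun c => by
    rw [← he c, AmpleX.locus_iso]
    exact (locus_ps φ hON _ _).symm
  refine ⟨N, φ, SymX.isImmersion_of_locally φ fun x => ?_, hφ, ⟨e.symm⟩⟩
  obtain ⟨b, hb⟩ := exists_mem_locus hL' hs x
  let O : (KRR.PY N S).Opens := ⨆ a, AmpleX.locus (crdO N S (κ (a, some b)))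
  let D := φ ⁻¹ᵁ O
  have hmemD : ∀ z, z ∈ D → ∃ a, z ∈ AmpleX.locus (t a) ∧ z ∈ AmpleX.locus (s b) := fun z hz => by
    obtain ⟨a, ha⟩ := Opens.mem_iSup.1 (show φ z ∈ O from hz)
    have h : z ∈ AmpleX.locus (w (κ (a, some b))) := by rw [← hloc]; exact ha
    rw [hwloc] at h
    exact ⟨a, h.1, h.2⟩
  refine ⟨O, Opens.mem_iSup.2 ?_, ?_⟩
  · obtain ⟨a, ha⟩ := ht x
    refine ⟨a, ?_⟩
    show x ∈ φ ⁻¹ᵁ AmpleX.locus (crdO N S (κ (a, some b)))
    rw [hloc, hwloc]
    exact ⟨ha, hb⟩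
  -- the projection
  let σ : Fin (n + 1) → Γ((Scheme.Modules.pullback O.ι).obj ON, ⊤) := fun a =>
    ps O.ι ON (le_refl ⊤) (crdO N S (κ (a, some b)))
  have hσ : ProjUP.GeneratedBy _ σ := generatedBy_of_locus σ fun z => by
    obtain ⟨a, ha⟩ := Opens.mem_iSup.1 z.2
    exact ⟨a, by rw [locus_ps _ hON]; exact ha⟩
  obtain ⟨p, hp, ep, hep⟩ := exists_toPn n (O.ι ≫ KRR.pr N S) (PicClLib.isInvertible_pullback O.ι hON) σ hσ
  let κD : D.toScheme ⟶ O.toScheme := φ ∣_ O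
  have hκD : κD ≫ O.ι = D.ι ≫ φ := morphismRestrict_ι φ O
  let L₁ := (Scheme.Modules.pullback D.ι).obj L
  let L₂ := (Scheme.Modules.pullback D.ι).obj LL
  let μ : L₁ ⟶ L₂ := (Scheme.Modules.pullback D.ι).map (mulBy (s b))
  have hμ : ∀ a, μ.app ⊤ (ps D.ι L (le_refl ⊤) (t a)) = ps D.ι LL (le_refl ⊤) (w (κ (a, some b))) := fun a => by
    rw [ps_map, mulBy_app]
    congr 1
    simp only [w, Equiv.symm_apply_apply]
    rfl
  have hgen₂ : ProjUP.GeneratedBy L₂ fun a => ps D.ι LL (le_refl ⊤) (w (κ (a, some b))) :=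
    generatedBy_of_locus _ fun z => by
      obtain ⟨a, h1, h2⟩ := hmemD z.1 z.2
      exact ⟨a, by rw [locus_ps _ hLL, hwloc]; exact ⟨h1, h2⟩⟩
  have h₁ := PicClLib.isInvertible_pullback D.ι hL
  have h₂ := PicClLib.isInvertible_pullback D.ι hLL
  haveI : Epi μ := epi_of_generated h₂ _ hgen₂ μ fun a => ⟨_, hμ a⟩
  haveI : IsIso μ := Groth.Agent.S19661.isIso_of_epi_rank (rank_one_inv h₁) (rank_one_inv h₂) μ
  let eA : (Scheme.Modules.pullback (κD ≫ p)).obj O1 ≅ L₂ :=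
    ((Scheme.Modules.pullbackComp κD p).app O1).symm ≪≫ (Scheme.Modules.pullback κD).mapIso ep ≪≫
      (Scheme.Modules.pullbackComp κD O.ι).app ON ≪≫ (Scheme.Modules.pullbackCongr hκD).app ON ≪≫
      ((Scheme.Modules.pullbackComp D.ι φ).app ON).symm ≪≫ (Scheme.Modules.pullback D.ι).mapIso e
  let eB : (Scheme.Modules.pullback (D.ι ≫ i)).obj O1 ≅ L₂ :=
    ((Scheme.Modules.pullbackComp D.ι i).app O1).symm ≪≫ (Scheme.Modules.pullback D.ι).mapIso eL.symm ≪≫ asIso μ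
  have hB : ∀ a, eB.hom.app ⊤ (ps (D.ι ≫ i) O1 (le_refl ⊤) (crdO n S a)) =
      ps D.ι LL (le_refl ⊤) (w (κ (a, some b))) := fun a => by
    show μ.app ⊤ (((Scheme.Modules.pullback D.ι).map eL.inv).app ⊤
      (((Scheme.Modules.pullbackComp D.ι i).inv.app O1).app ⊤ (ps (D.ι ≫ i) O1 (le_refl ⊤) (crdO n S a)))) = _
    rw [ps_comp_inv D.ι i O1 (U := ⊤) le_rfl le_rfl le_rfl, ps_map]
    exact hμ a
  have hA : ∀ a, eA.hom.app ⊤ (ps (κD ≫ p) O1 (le_refl ⊤) (crdO n S a)) =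
      ps D.ι LL (le_refl ⊤) (w (κ (a, some b))) := fun a => by
    show ((Scheme.Modules.pullback D.ι).map e.hom).app ⊤
      (((Scheme.Modules.pullbackComp D.ι φ).inv.app ON).app ⊤
        (((Scheme.Modules.pullbackCongr hκD).hom.app ON).app ⊤ (((Scheme.Modules.pullbackComp κD O.ι).hom.app ON).app ⊤
          (((Scheme.Modules.pullback κD).map ep.hom).app ⊤
            (((Scheme.Modules.pullbackComp κD p).inv.app O1).app ⊤ (ps (κD ≫ p) O1 (le_refl ⊤) (crdO n S a))))))) = _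
    rw [ps_comp_inv κD p O1 (U := ⊤) le_rfl le_rfl le_rfl, ps_map,
      show ep.hom.app ⊤ (QCoh.pullSec p _ le_rfl (crdO n S a)) = σ a from hep a,
      ps_comp κD O.ι ON (U := ⊤) le_rfl le_rfl le_rfl, ps_congr hκD ON le_rfl le_rfl,
      ps_comp_inv D.ι φ ON (U := ⊤) le_rfl le_rfl le_rfl, ps_map,
      show e.hom.app ⊤ (QCoh.pullSec φ ON le_rfl (crdO N S (κ (a, some b)))) = w (κ (a, some b)) from he _]
  have hpi : κD ≫ p = D.ι ≫ i := by
    refine eq_toPn n _ _ ?_ (eA ≪≫ eB.symm) fun a => ?_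
    · rw [Category.assoc, hp, ← Category.assoc, hκD, Category.assoc, Category.assoc]
      rw [show φ ≫ KRR.pr N S = q from hφ, show i ≫ KRR.pr n S = q from hiq]
    · show eB.inv.app ⊤ (eA.hom.app ⊤ _) = _
      rw [hA, ← hB]
      exact congrArg (fun χ => Scheme.Modules.Hom.app χ ⊤ _) eB.hom_inv_id
  haveI : IsImmersion (κD ≫ p) := by rw [hpi]; infer_instance
  haveI : IsImmersion κD := IsImmersion.of_comp κD p
  rw [← hκD]
  infer_instance

end Groth.Agent.VAmple.PnTensor
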