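import Groth.Agent.AmpleX.Generated
import Groth.Agent.AmpleX.Sect
import Groth.Agent.PnCoh.Chow.Exists
import Groth.Agent.InvX.GenLocusPull

/-!
# Sections of large powers of an ample module with enough coordinates
-/

universe u

open CategoryTheory AlgebraicGeometry TopologicalSpace Opposite
open Groth.Agent.H23.PicMul
open Groth.Agent.AModX (res resR)

set_option backward.isDefEq.respectTransparency false
set_option backward.isDefEq.respectTransparency.types false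
set_option linter.style.haveILetI false

namespace Groth.Agent.VAmple

open Groth.Agent Groth.Agent.AmpleX

variable {X : Scheme.{u}} {L M : X.Modules}

theorem eval₂Hom_mem {A B : Type*} [CommRing A] [CommRing B] {k : ℕ} (c : A →+* B) (g : Fin k → B) (S : Subring B)
    (hc : ∀ a, c a ∈ S) (hg : ∀ i, g i ∈ S) (p : MvPolynomial (Fin k) A) : MvPolynomial.eval₂Hom c g p ∈ S := by
  induction p using MvPolynomial.induction_on with
  | C a => rw [MvPolynomial.eval₂Hom_C]; exact hc a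
  | add p q hp hq => rw [map_add]; exact add_mem hp hq
  | mul_X p i hp => rw [map_mul, MvPolynomial.eval₂Hom_X']; exact mul_mem hp (hg i)

theorem exists_sections_cover [CompactSpace X] [X.IsSeparated] (hL : CohB1.IsAmple L) :
    ∃ n₁ : ℕ, ∀ b, n₁ ≤ b → ∃ (J : Type u) (_ : Fintype J) (τ : J → Γ(CohB1.tensorPow L b, ⊤)),
      ∀ x : X, ∃ j, x ∈ locus (τ j) := by
  obtain ⟨n₁, h⟩ := eventually_generated (F := Coh.structureModule X) hL (isQCoh_one X)
    (QCoh.isFT_of_isFP (QCoh.isFP_of_isFinLocFree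
      (H23.PullPush.isFinLocFree_of_isInvertible InvX.isInvertible_structureModule)))
  refine ⟨n₁, fun b hb => ?_⟩
  obtain ⟨G, iso, ι, s, hs⟩ := h b hb
  obtain ⟨e⟩ := cl_eq_iff.1 (show PicF.cl (CohB1.tensorMod (CohB1.tensorPow L 0) (CohB1.tensorPow L b)) =
      PicF.cl (CohB1.tensorPow L b) by rw [cl_tensor, cl_tensorPow, pow_zero, one_mul])
  have hG : PicF.IsInvertible G := H23.PicMul.isInvertible_of_iso iso.symm
    (InvX.isInvertible_tensorMod InvX.isInvertible_structureModule (InvX.isInvertible_tensorPow hL.1 b))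
  have hx : ∀ x : X, ∃ i, x ∈ locus (s i) := fun x => by
    obtain ⟨i, U, hxU, hU⟩ := InvX.exists_frame_of_generated hG s x (hs x)
    exact ⟨i, le_locus _ le_top hU hxU⟩
  choose i hi using hx
  obtain ⟨S, hS⟩ := isCompact_univ.elim_finite_subcover (fun x => (locus (s (i x)) : Set X))
    (fun x => (locus (s (i x))).2) (fun x _ => Set.mem_iUnion.2 ⟨x, hi x⟩)
  refine ⟨S, inferInstance, fun j => (iso ≪≫ e).hom.app ⊤ (s (i j.1)), fun x => ?_⟩
  obtain ⟨y, hy, hxy⟩ := Set.mem_iUnion₂.1 (hS (Set.mem_univ x))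
  exact ⟨⟨y, hy⟩, (locus_iso (iso ≪≫ e) (s (i y))).ge hxy⟩

/-- For large `n`: finitely many sections of `L ^ n` with coordinates generating the functions on affine loci
covering the scheme. -/
theorem exists_sections {R : Type u} [CommRing R] (q : X ⟶ Spec (CommRingCat.of R)) [LocallyOfFiniteType q]
    [CompactSpace X] [X.IsSeparated] (hL : CohB1.IsAmple L) :
    ∃ n₀ : ℕ, ∀ n, n₀ ≤ n → ∃ (κ : Type u) (_ : Fintype κ) (s : κ → Γ(CohB1.tensorPow L n, ⊤)),
      ∀ x : X, ∃ (l : κ) (V : X.Opens), x ∈ V ∧ V = locus (s l) ∧ IsAffineOpen V ∧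
        Subring.closure (Set.range ((resR (le_top : V ≤ ⊤)).comp (ProjUP.toGlobal q)) ∪
          {v : Γ(X, V) | ∃ i, res _ (le_top : V ≤ ⊤) (s i) = v • res _ (le_top : V ≤ ⊤) (s l)}) = ⊤ := by
  classical
  obtain ⟨a, ha, κ₀, _, σ, hσ, he, hcov⟩ := exists_cover_genLocus hL
  choose e he using he
  obtain ⟨n₁, hn₁⟩ := exists_sections_cover hL
  choose J hJ τ hτ using fun r : Fin a => hn₁ (n₁ + r) (Nat.le_add_right _ _)
  choose m g hg using fun k => PnCoh.Chow.exists_gens q (hσ k)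
  let G := fun k => CohB1.genLocus _ (σ k)
  let t : ∀ (r : Fin a) (k : κ₀) (j : J r), Option (Fin (m k)) → Γ(CohB1.tensorPow L (n₁ + r), G k) :=
    fun r k j o => o.elim (powElt (e k) (n₁ + r)) (fun c => g k c • res _ (le_top : G k ≤ ⊤) (τ r j))
  have hext := fun (r : Fin a) (p : Σ (k : κ₀) (_ : J r), Option (Fin (m k))) => exists_extend
    (ProjUPX.isQCoh_of_isInvertible (InvX.isInvertible_tensorPow hL.1 (n₁ + r)))
    (InvX.isInvertible_tensorPow hL.1 a) (σ p.1) (t r p.1 p.2.1 p.2.2)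
  choose Q hQ using hext
  haveI := fun r => hJ r
  let Q₀ := Finset.univ.sup fun r => Finset.univ.sup (Q r)
  refine ⟨n₁ + a * (Q₀ + 1), fun n hn => ?_⟩
  let r : Fin a := ⟨(n - n₁) % a, Nat.mod_lt _ ha⟩
  have hqq : Q₀ + 1 ≤ (n - n₁) / a := (Nat.le_div_iff_mul_le ha).2 (by rw [mul_comm]; omega)
  obtain ⟨q', hq'⟩ := Nat.exists_eq_add_of_le' (le_trans (Nat.le_add_left 1 Q₀) hqq)
  obtain ⟨φ⟩ : Nonempty (CohB1.tensorMod (CohB1.tensorPow L (n₁ + r)) (CohB1.tensorPow (CohB1.tensorPow L a) (q' + 1)) ≅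
      CohB1.tensorPow L n) := cl_eq_iff.1 (by
    have h1 : n₁ + (n - n₁) % a + a * (q' + 1) = n := by
      rw [← hq', add_assoc, Nat.mod_add_div]; omega
    rw [cl_tensor, cl_tensorPow, cl_tensorPow, cl_tensorPow, cl_tensorPow, ← pow_mul, ← pow_add, h1])
  choose T hT using fun p => hQ r p (q' + 1)
    ((Finset.le_sup (f := Q r) (Finset.mem_univ p)).trans
      ((Finset.le_sup (f := fun r => Finset.univ.sup (Q r)) (Finset.mem_univ r)).trans
        ((Nat.le_succ Q₀).trans (hqq.trans hq'.le))))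
  let P : ∀ k, Γ(CohB1.tensorPow (CohB1.tensorPow L a) (q' + 1), ⊤) := fun k => powElt (InvX.one (σ k)) (q' + 1)
  let s : ((κ₀ × J r) ⊕ (Σ (k : κ₀) (_ : J r), Option (Fin (m k)))) → Γ(CohB1.tensorPow L n, ⊤) :=
    Sum.elim (fun p => φ.hom.app ⊤ (InvX.tmul (τ r p.2) (P p.1))) (fun p => φ.hom.app ⊤ (T p))
  refine ⟨_, inferInstance, s, fun x => ?_⟩
  obtain ⟨k, hxk⟩ := hcov x
  obtain ⟨j, hxj⟩ := hτ r x
  have hE : InvX.IsFrame (powElt (e k) (n₁ + r)) := isFrame_powElt (he k) _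
  obtain ⟨h, hh⟩ := hE.exists_coord le_rfl (res _ (le_top : G k ≤ ⊤) (τ r j))
  rw [AModX.res_self] at hh
  have hinf : locus (τ r j) ⊓ G k = X.basicOpen h := locus_inf _ le_top hE hh
  have hloc : locus (s (Sum.inl (k, j))) = locus (τ r j) ⊓ G k := by
    refine (locus_iso φ _).trans ?_
    rw [locus_tmul (InvX.isInvertible_tensorPow hL.1 _) (InvX.isInvertible_tensorPow
      (InvX.isInvertible_tensorPow hL.1 a) _), locus_powElt (InvX.isInvertible_tensorPow hL.1 a),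
      ← genLocus_eq_locus]
  refine ⟨Sum.inl (k, j), X.basicOpen h, hinf.le ⟨hxj, hxk⟩, (hloc.trans hinf).symm, (hσ k).basicOpen h, ?_⟩
  set V := X.basicOpen h
  have hVG : V ≤ G k := X.basicOpen_le h
  set S := Subring.closure (Set.range ((resR (le_top : V ≤ ⊤)).comp (ProjUP.toGlobal q)) ∪
    {v : Γ(X, V) | ∃ i, res _ (le_top : V ≤ ⊤) (s i) = v • res _ (le_top : V ≤ ⊤) (s (Sum.inl (k, j)))}) with hS
  have hcoord : ∀ (o : Option (Fin (m k))) (c : Γ(X, V)),
      res _ hVG (t r k j o) = c • res _ (le_top : V ≤ ⊤) (τ r j) → c ∈ S := fun o c hc => by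
    refine Subring.subset_closure (Or.inr ⟨Sum.inr ⟨k, j, o⟩, ?_⟩)
    show res _ _ (φ.hom.app ⊤ (T ⟨k, j, o⟩)) = c • res _ _ (φ.hom.app ⊤ (InvX.tmul (τ r j) (P k)))
    rw [← AModX.app_res, ← AModX.app_res, ← Scheme.Modules.Hom.app_smul]
    refine congrArg _ ?_
    rw [InvX.res_tmul, ← InvX.tmul_smul_left, ← hc,
      ← AModX.res_res (le_top : G k ≤ ⊤) hVG (T ⟨k, j, o⟩)]
    refine (congrArg (res _ hVG) (hT ⟨k, j, o⟩)).trans ((InvX.res_tmul _ _ _).trans ?_)
    refine congrArg (InvX.tmul _) ?_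
    rw [res_powElt, AModX.res_res, res_powElt]
  have hunit : IsUnit (resR hVG h) := AModX.isUnit_resR _ _ le_rfl
  obtain ⟨u, hu⟩ := hunit
  have hτV : res _ (le_top : V ≤ ⊤) (τ r j) = (u : Γ(X, V)) • res _ hVG (powElt (e k) (n₁ + r)) := by
    rw [← AModX.res_res (le_top : G k ≤ ⊤) hVG, hh, AModX.res_smul, hu]
  have huS : (↑u⁻¹ : Γ(X, V)) ∈ S := hcoord none _ (by
    rw [hτV, smul_smul, Units.inv_mul, one_smul]; rfl)
  have hgS : ∀ c, resR hVG (g k c) ∈ S := fun c => hcoord (some c) _ (by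
    show res _ hVG (g k c • res _ (le_top : G k ≤ ⊤) (τ r j)) = _
    rw [AModX.res_smul, AModX.res_res])
  have hGS : ∀ y : Γ(X, G k), resR hVG y ∈ S := fun y => by
    obtain ⟨p, rfl⟩ := hg k y
    rw [MvPolynomial.map_eval₂Hom]
    refine eval₂Hom_mem _ _ S (fun c => Subring.subset_closure (Or.inl ⟨c, ?_⟩)) hgS p
    show resR (le_top : V ≤ ⊤) (ProjUP.toGlobal q c) = resR hVG (PnCoh.Chow.aHom q (G k) c)
    show resR (le_top : V ≤ ⊤) (q.appTop ((Scheme.ΓSpecIso (CommRingCat.of R)).inv c)) =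
      resR hVG (q.appLE ⊤ (G k) le_top ((Scheme.ΓSpecIso (CommRingCat.of R)).inv c))
    rw [show q.appLE ⊤ (G k) le_top = q.appTop ≫ X.presheaf.map (homOfLE le_top).op from rfl, CommRingCat.comp_apply]
    exact (AModX.resR_resR _ _ _).symm
  refine eq_top_iff.2 fun z _ => ?_
  letI : Algebra Γ(X, G k) Γ(X, V) := (X.presheaf.map (homOfLE hVG).op).hom.toAlgebra
  haveI : IsLocalization.Away h Γ(X, V) := (hσ k).isLocalization_basicOpen h
  obtain ⟨N, y, hy⟩ := IsLocalization.Away.surj h z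
  have hy' : z * (u : Γ(X, V)) ^ N = resR hVG y := by rw [hu]; exact hy
  have hz : z = resR hVG y * (↑u⁻¹ : Γ(X, V)) ^ N := by
    rw [← hy', mul_assoc, ← mul_pow, Units.mul_inv, one_pow, mul_one]
  rw [hz]
  exact mul_mem (hGS y) (pow_mem huS N)

end Groth.Agent.VAmple
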